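import Groth.Agent.L12.FinCov.Basis
import Groth.Agent.L16.QCohSections
import Groth.Agent.L29.DCoh.PCQCoh
import Mathlib.LinearAlgebra.Matrix.NonsingularInverse

/-!
Bases of locally free modules near finitely many points of an affine open.
-/

set_option autoImplicit false
set_option backward.isDefEq.respectTransparency false
set_option backward.isDefEq.respectTransparency.types false

universe u

open CategoryTheory AlgebraicGeometry TopologicalSpace Opposite

namespace Groth.L16.SemiBasis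

open Groth.L12.FinCov

variable {X : Scheme.{u}} {M : X.Modules} {n : ℕ}

theorem eq_of_locally {U : X.Opens} {ι : Type*} (O : ι → X.Opens) (hle : ∀ i, O i ≤ U) (hcov : U ≤ ⨆ i, O i)
    (a b : Γ(X, U)) (h : ∀ i, rO (hle i) a = rO (hle i) b) : a = b :=
  TopCat.Presheaf.section_ext X.sheaf U _ _ fun x hx => by
    obtain ⟨i, hi⟩ := Opens.mem_iSup.1 (hcov hx)
    show X.presheaf.germ U x hx a = X.presheaf.germ U x hx b
    rw [← X.presheaf.germ_res_apply (homOfLE (hle i)) x hi a, ← X.presheaf.germ_res_apply (homOfLE (hle i)) x hi b]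
    exact congrArg _ (h i)

/-- Being a basis is local. -/
theorem isBasisOn_iSup {ι : Type u} (O : ι → X.Opens) {W : X.Opens} (hW : W ≤ ⨆ i, O i) (hle : ∀ i, O i ≤ W)
    (b : Fin n → Γ(M, W)) (hb : ∀ i, IsBasisOn M (O i) fun k => rM M (hle i) (b k)) : IsBasisOn M W b := by
  intro V hV
  let T : ι → X.Opens := fun i => V ⊓ O i
  have hTV : ∀ i, T i ≤ V := fun i => inf_le_left
  have hcov : V ≤ ⨆ i, T i := fun x hx => by
    obtain ⟨i, hi⟩ := Opens.mem_iSup.1 (hW (hV hx))
    exact Opens.mem_iSup.2 ⟨i, hx, hi⟩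
  have hloc : ∀ i (V' : X.Opens) (h : V' ≤ O i) (h' : V' ≤ W), Function.Bijective (lc M b h') := fun i V' h h' => by
    refine Eq.mp (congrArg Function.Bijective ?_) (hb i V' h)
    funext c
    exact Finset.sum_congr rfl fun k _ => by rw [rM_rM]
  refine ⟨fun c c' hcc => funext fun k => eq_of_locally T hTV hcov _ _ fun i => ?_, fun s => ?_⟩
  · have := congrArg (rM M (hTV i)) hcc
    rw [rM_lc, rM_lc] at this
    exact congrFun ((hloc i (T i) inf_le_right _).1 this) k
  · choose c hc using fun i => (hloc i (T i) inf_le_right ((hTV i).trans hV)).2 (rM M (hTV i) s)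
    have compat : ∀ k i j, rO (inf_le_left : T i ⊓ T j ≤ T i) (c i k) = rO inf_le_right (c j k) := fun k i j => by
      refine congrFun ((hloc i (T i ⊓ T j) (inf_le_left.trans inf_le_right)
        (inf_le_left.trans ((hTV i).trans hV))).1 (a₁ := fun k => rO inf_le_left (c i k))
        (a₂ := fun k => rO inf_le_right (c j k)) ?_) k
      rw [← rM_lc b ((hTV i).trans hV) inf_le_left, hc i, rM_rM]
      exact (rM_rM M (hTV j) inf_le_right s).symm.trans
        ((congrArg (rM M inf_le_right) (hc j)).symm.trans (rM_lc b _ _ _))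
    choose g hg using fun k => X.sheaf.existsUnique_gluing' T V (fun i => homOfLE (hTV i)) hcov (fun i => c i k)
      (compat k)
    refine ⟨g, ?_⟩
    refine TopCat.Sheaf.eq_of_locally_eq' (⟨M.presheaf, M.isSheaf⟩ : TopCat.Sheaf Ab X) T V (fun i => homOfLE (hTV i)) hcov _ _ fun i => ?_
    show rM M (hTV i) (lc M b hV g) = rM M (hTV i) s
    rw [rM_lc, ← hc i]
    exact congrArg (lc M b ((hTV i).trans hV)) (funext fun k => (hg k).1 i)

/-- Change of basis by a matrix whose determinant is a unit on an open. -/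
theorem isBasisOn_of_isUnit_det {W : X.Opens} {b : Fin n → Γ(M, W)} (hb : IsBasisOn M W b)
    (s : Fin n → Γ(M, W)) (C : Matrix (Fin n) (Fin n) Γ(X, W))
    (hs : ∀ k, s k = lc M b le_rfl fun i => C i k) :
    IsBasisOn M (X.basicOpen C.det) fun k => rM M (X.basicOpen_le _) (s k) := by
  intro V hV
  have hVW : V ≤ W := hV.trans (X.basicOpen_le _)
  let φ : Γ(X, W) →+* Γ(X, V) := (X.presheaf.map (homOfLE hVW).op).hom
  have hu : IsUnit (C.map φ).det := by
    have := (X.toRingedSpace.isUnit_res_basicOpen C.det).map (X.presheaf.map (homOfLE hV).op).hom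
    rw [show (C.map φ).det = rO hVW C.det from (RingHom.map_det φ C).symm,
      ← rO_rO (X.basicOpen_le C.det) hV]
    exact this
  have hmv : Function.Bijective (C.map φ).mulVec :=
    ⟨Matrix.mulVec_injective_of_isUnit ((C.map φ).isUnit_iff_isUnit_det.2 hu),
      Matrix.mulVec_surjective_iff_isUnit.2 ((C.map φ).isUnit_iff_isUnit_det.2 hu)⟩
  refine Eq.mp (congrArg Function.Bijective (funext fun c => ?_)) ((hb V hVW).comp hmv)
  show lc M b hVW ((C.map φ).mulVec c) = ∑ k, c k • rM M hV (rM M (X.basicOpen_le _) (s k))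
  simp only [rM_rM, hs, rM_lc]
  simp only [lc, Matrix.mulVec, dotProduct, Matrix.map_apply, Finset.sum_smul, Finset.smul_sum, ← mul_smul]
  rw [Finset.sum_comm]
  exact Finset.sum_congr rfl fun k _ => Finset.sum_congr rfl fun i _ => by
    rw [mul_comm, rO_rO]

theorem mem_primeIdealOf_iff {V : X.Opens} (hV : IsAffineOpen V) (x : V) (a : Γ(X, V)) :
    a ∈ (hV.primeIdealOf x).asIdeal ↔ (x : X) ∉ X.basicOpen a := by
  have h : hV.primeIdealOf x ∈ PrimeSpectrum.basicOpen a ↔ (x : X) ∈ X.basicOpen a := by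
    rw [← hV.fromSpec_preimage_basicOpen a]
    show hV.fromSpec (hV.primeIdealOf x) ∈ X.basicOpen a ↔ _
    rw [hV.fromSpec_primeIdealOf x]
  rw [← h, PrimeSpectrum.mem_basicOpen, not_not]

theorem specializes_of_le {V : X.Opens} (hV : IsAffineOpen V) {x y : V}
    (h : (hV.primeIdealOf x).asIdeal ≤ (hV.primeIdealOf y).asIdeal) : (x : X) ⤳ (y : X) := by
  have h' : hV.primeIdealOf x ⤳ hV.primeIdealOf y := (PrimeSpectrum.le_iff_specializes _ _).1 h
  simpa only [hV.fromSpec_primeIdealOf] using h'.map hV.fromSpec.continuous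

theorem exists_isBasisOn (hM : FlatMod.IsFinLocFreeOfRank n M) (Z : Set X) (hZ : Z.Finite) (V : X.Opens)
    (hV : IsAffineOpen V) (hZV : Z ⊆ V) :
    ∃ (U : X.Opens) (b : Fin n → Γ(M, U)), Z ⊆ U ∧ U ≤ V ∧ IsBasisOn M U b := by
  classical
  haveI : Coh.IsQCoh M := Groth.L29.DC.PCQCoh.isQCoh_of_isFinLocFree fun x => by
    obtain ⟨U, hU, e⟩ := hM x; exact ⟨U, n, hU, e⟩
  haveI : Fintype Z := hZ.fintype
  let p : Z → Ideal Γ(X, V) := fun z => (hV.primeIdealOf ⟨z.1, hZV z.2⟩).asIdeal
  let Z₀ : Set Z := {z | ∀ w, p z ≤ p w → p w ≤ p z}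
  have hmax : ∀ z, ∃ w ∈ Z₀, p z ≤ p w := fun z => by
    obtain ⟨w, hw⟩ := (Set.toFinite {w : Z | p z ≤ p w}).exists_maximalFor p _ ⟨z, (le_refl (p z) : p z ≤ p z)⟩
    exact ⟨w, fun v hv => hw.2 (le_trans hw.1 hv) hv, hw.1⟩
  have hsep : ∀ z w : Z₀, z ≠ w → ∃ a ∈ p w.1, a ∉ p z.1 := fun z w hne => by
    by_contra hc
    push Not at hc
    have h1 : p w.1 ≤ p z.1 := hc
    have h2 := le_antisymm h1 (w.2 z.1 h1)
    have h3 := congrArg (fun q => (hV.fromSpec q : X)) (PrimeSpectrum.ext h2)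
    simp only [hV.fromSpec_primeIdealOf] at h3
    exact hne (Subtype.ext (Subtype.ext h3.symm))
  choose a ha ha' using hsep
  let h : Z₀ → Γ(X, V) := fun z => ∏ w : {w : Z₀ // z ≠ w}, a z w.1 w.2
  have hne : ∀ z : Z₀, h z ∉ p z.1 := fun z hz => by
    obtain ⟨w, -, hw⟩ := (Ideal.IsPrime.prod_mem_iff (hp := (hV.primeIdealOf _).isPrime)).1 hz
    exact ha' z w.1 w.2 hw
  have hmem : ∀ z w : Z₀, z ≠ w → h z ∈ p w.1 := fun z w hzw =>
    (Ideal.IsPrime.prod_mem_iff (hp := (hV.primeIdealOf _).isPrime)).2 ⟨⟨w, hzw⟩, Finset.mem_univ _, ha z w hzw⟩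
  have hloc : ∀ z : Z₀, ∃ (f : Γ(X, V)) (b : Fin n → Γ(M, X.basicOpen f)),
      (z.1.1 : X) ∈ X.basicOpen f ∧ IsBasisOn M (X.basicOpen f) b := fun z => by
    obtain ⟨W, b, -, hxW, hWV, hb⟩ := exists_basisOn_of_rank hM z.1.1 V (hZV z.1.2)
    obtain ⟨f, hfW, hxf⟩ := hV.exists_basicOpen_le ⟨z.1.1, hxW⟩ (hZV z.1.2)
    exact ⟨f, _, hxf, hb.mono hfW⟩
  choose f b hzf hb using hloc
  choose N t ht using fun (z : Z₀) (k : Fin n) =>
    Groth.L16.QCohSect.exists_pow_smul_eq_res hV M (f z) (b z k)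
  let s : Fin n → Γ(M, V) := fun k => ∑ z, h z • t z k
  have key : ∀ z : Z₀, ∃ U : X.Opens, (z.1.1 : X) ∈ U ∧ ∃ hUV : U ≤ V, IsBasisOn M U fun k => rM M hUV (s k) := by
    intro z
    have hle := X.basicOpen_le (f z)
    choose d hd using fun (w : Z₀) (k : Fin n) => (hb z _ le_rfl).2 (rM M hle (t w k))
    let C : Matrix (Fin n) (Fin n) Γ(X, X.basicOpen (f z)) := fun i k =>
      ∑ w, rO hle (h w) * if w = z then (if i = k then rO hle (f z ^ N z k) else 0) else d w k i
    have hs : ∀ k, rM M hle (s k) = lc M (b z) le_rfl fun i => C i k := fun k => by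
      have h0 : rM M hle (s k) = ∑ w, rO hle (h w) • rM M hle (t w k) := by
        refine (map_sum (M.presheaf.map (homOfLE hle).op).hom _ _).trans (Finset.sum_congr rfl fun w _ => ?_)
        exact rM_smul M hle _ _
      rw [h0]
      have h1 : ∀ w, rM M hle (t w k) =
          ∑ i, (if w = z then (if i = k then rO hle (f z ^ N z k) else 0) else d w k i) • b z i := fun w => by
        by_cases hw : w = z
        · subst hw
          simp only [if_pos rfl, ite_smul, zero_smul, Finset.sum_ite_eq', Finset.mem_univ, if_true]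
          exact ht w k
        · simp only [if_neg hw]
          exact (hd w k).symm.trans (Finset.sum_congr rfl fun i _ => by rw [rM_self])
      simp only [h1, Finset.smul_sum, ← mul_smul, lc, rM_self, C, Finset.sum_smul]
      exact Finset.sum_comm
    refine ⟨X.basicOpen C.det, ?_, (X.basicOpen_le _).trans hle, ?_⟩
    · rw [Scheme.mem_basicOpen _ _ _ (hzf z)]
      let φ : Γ(X, X.basicOpen (f z)) →+* IsLocalRing.ResidueField (X.presheaf.stalk z.1.1) :=
        (IsLocalRing.residue _).comp (X.presheaf.germ _ _ (hzf z)).hom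
      have hφ : ∀ c, φ c ≠ 0 ↔ IsUnit (X.presheaf.germ _ _ (hzf z) c) := fun c =>
        (IsLocalRing.residue_ne_zero_iff_isUnit _)
      rw [← hφ, RingHom.map_det]
      have hφa : ∀ c : Γ(X, V), φ (rO hle c) ≠ 0 ↔ c ∉ p z.1 := fun c => by
        rw [hφ, mem_primeIdealOf_iff, not_not, Scheme.mem_basicOpen _ _ _ (hZV z.1.2)]
        show IsUnit (X.presheaf.germ _ _ _ (X.presheaf.map _ c)) ↔ _
        rw [X.presheaf.germ_res_apply]
      have hdiag : φ.mapMatrix C = Matrix.diagonal fun k => φ (rO hle (h z)) * φ (rO hle (f z ^ N z k)) := by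
        ext i k
        simp only [RingHom.mapMatrix_apply, Matrix.map_apply, C, map_sum, map_mul]
        rw [Finset.sum_eq_single z]
        · by_cases hik : i = k
          · subst hik; simp
          · simp [hik, Matrix.diagonal_apply_ne _ hik]
        · intro w _ hw
          have : φ (rO hle (h w)) = 0 := not_not.1 fun hh => (hφa _).1 hh (hmem w z hw)
          rw [this, zero_mul]
        · exact fun hh => (hh (Finset.mem_univ z)).elim
      rw [hdiag, Matrix.det_diagonal, Finset.prod_ne_zero_iff]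
      intro k _
      refine mul_ne_zero ((hφa _).2 (hne z)) ((hφa _).2 fun hh => ?_)
      exact (mem_primeIdealOf_iff hV ⟨z.1.1, hZV z.1.2⟩ (f z)).1
        ((hV.primeIdealOf ⟨z.1.1, hZV z.1.2⟩).isPrime.mem_of_pow_mem _ hh) (hzf z)
    · have hres := isBasisOn_of_isUnit_det (hb z) (fun k => rM M hle (s k)) C hs
      simpa only [rM_rM] using hres
  choose U hzU hUV hU using key
  refine ⟨⨆ z, U z, fun k => rM M (iSup_le hUV) (s k), fun x hx => ?_, iSup_le hUV, ?_⟩
  · obtain ⟨w, hw, hle⟩ := hmax ⟨x, hx⟩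
    exact (specializes_of_le hV hle).mem_open (⨆ z, U z).2 (Opens.mem_iSup.2 ⟨⟨w, hw⟩, hzU ⟨w, hw⟩⟩)
  · refine isBasisOn_iSup U le_rfl (le_iSup U) _ fun z => ?_
    simpa only [rM_rM] using hU z

end Groth.L16.SemiBasis
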